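import Cfsg.Agent.H513.PQ.Tool
import Cfsg.Agent.H521.PBJ
import Cfsg.Agent.H315.Eight.RowJ3
import Cfsg.Agent.H302.Van.JTwo
import Cfsg.Agent.H679.LieAlt
import Cfsg.Agent.H846.PB.JTwo
import Cfsg.Agent.H852.PSq.JTwo
import Cfsg.Agent.H34.SporJ2
import Cfsg.Agent.H424.DegTools
import Cfsg.Agent.Lib.FastPerm
import Cfsg.Agent.Prune
set_option linter.all false
prune_inst 0x7f00000000000000000000000000000000000000000000000000000000000000000000000000000000000000000000000000000000000000000000000000000000000000000000000000000000000000003fffffffffffffffffffffffffffbeffbdffffffff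
open scoped Cfsg.Agent.FastGrp

-- part: H513/PQ/J3
section
/-!
# S4612: the row of `J₃` (helper513)

Degrees `1920 = 2^7 3 5`, `1215 = 3^5 5`; `C(3A) = 3 × A₆`.
-/

set_option autoImplicit false

open Cfsg Subgroup

namespace Cfsg.Agent.H513.PQ.J3

open Cfsg.Agent.H317.PQ Cfsg.Agent.H709.PB Cfsg.Agent.H513.PQ Cfsg.Agent.H724.IMJThree Cfsg.Agent.H358.A3
open Cfsg.Agent.Blocks.Basic

universe u

variable {K : Type u} [Group K]

theorem alt_six_center : ∀ k : alternatingGroup (Fin 6), (∀ g : alternatingGroup (Fin 6), g * k = k * g) → k = 1 := by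
  intro k hk
  have h1 : k ∈ center (alternatingGroup (Fin 6)) := mem_center_iff.2 hk
  have : IsSimpleGroup (alternatingGroup (Fin 6)) := alternatingGroup.isSimpleGroup (by simp)
  have h2 := (inferInstance : (center (alternatingGroup (Fin 6))).Normal).eq_bot_or_eq_top
  rcases h2 with h2 | h2
  · rw [h2] at h1
    exact h1
  · exfalso
    have h3 : ∀ a b : alternatingGroup (Fin 6), a * b = b * a := fun a b => by
      have : b ∈ center (alternatingGroup (Fin 6)) := by rw [h2]; trivial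
      exact mem_center_iff.1 this a
    have h4 := h3 ⟨Equiv.swap (0 : Fin 6) 1 * Equiv.swap (2 : Fin 6) 3, Equiv.Perm.mem_alternatingGroup.2 (by decide +kernel)⟩
      ⟨Equiv.swap (0 : Fin 6) 1 * Equiv.swap (1 : Fin 6) 2, Equiv.Perm.mem_alternatingGroup.2 (by decide +kernel)⟩
    have h5 := congrArg Subtype.val h4
    revert h5
    show (Equiv.swap (0 : Fin 6) 1 * Equiv.swap (2 : Fin 6) 3) * (Equiv.swap (0 : Fin 6) 1 * Equiv.swap (1 : Fin 6) 2) =
      (Equiv.swap (0 : Fin 6) 1 * Equiv.swap (1 : Fin 6) 2) * (Equiv.swap (0 : Fin 6) 1 * Equiv.swap (2 : Fin 6) 3) → False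
    decide +kernel

theorem deg (h : Spor.IsoJ3 K) [Finite K] {m : ℕ}
    (hm : ∀ [Fintype (IrrCharacter K)] (V : IrrCharacter K → Fin 8 → ℤ), H417.JThreeLP.Hyp V → ∃ χ, V χ 0 = (m : ℤ)) :
    ∃ χ : IrrCharacter K, charDegree (χ : K → ℂ) = m := by
  classical
  have := Cfsg.Agent.Characters.Core.finite_irr (G := K)
  have := Fintype.ofFinite (IrrCharacter K)
  obtain ⟨V, hV, H⟩ := H417.JThreeDeg.hyp h
  obtain ⟨χ, hχ⟩ := hm V H
  refine ⟨χ, ?_⟩
  rw [hV χ] at hχ
  exact_mod_cast hχ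

theorem row_j3 (h : Spor.IsoJ3 K) : Row K := by
  have hcK := card_j3 h
  have hfin : Finite K := Nat.finite_of_card_ne_zero (by rw [hcK]; norm_num)
  have h17 : Fact (Nat.Prime 17) := ⟨by norm_num⟩
  have h19 : Fact (Nat.Prime 19) := ⟨by norm_num⟩
  obtain ⟨g, hg⟩ := exists_ord h (n := 17) (by decide)
  obtain ⟨k, hk⟩ := exists_ord h (n := 19) (by decide)
  have n17 : NB 17 1 K := NB.of_self (g := g) (IsPGroup.of_card (n := 1) (by rw [(H898.J3Cent.seventeen h hg).1, pow_one]))
    ⟨1, by rw [hg, pow_one]⟩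
  have n19 : NB 19 1 K := NB.of_self (g := k) (IsPGroup.of_card (n := 1) (by
    rw [H898.J3Cent.card_nineteen h hk, pow_one])) ⟨1, by rw [hk, pow_one]⟩
  have d1920 := deg h (m := 1920) fun V hV => H315.Eight.RowJ3.deg_1920 hV
  have d1215 := deg h (m := 1215) fun V hV => H315.Eight.RowJ3.deg_1215 hV
  obtain ⟨x, y, hx, -, hcx, -, f, hf⟩ := H302.Van.JThree.three_of_iso h
  obtain ⟨w, hw, hcw⟩ := exists_five h
  have three : ∀ q : ℕ, q.Prime → q ≠ 3 → q ∣ 360 → ¬ Same 3 q K := by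
    intro q hq h3 hd hS
    refine kill_own (K := alternatingGroup (Fin 6)) Nat.prime_three hq h3 H679.isLie_alt_six alt_six_center
      (by rw [H302.Van.card_six]; exact hd) hx (by rw [hcx, H302.Van.card_six]) f hf (PQ.of_same hq hS)
  apply Row.of_lt
  intro p q hp hq hpq hpG hqG
  rw [hcK] at hpG hqG
  rcases H898.J3Cent.prime_dvd_card hp hpG with rfl | rfl | rfl | rfl | rfl <;>
    rcases H898.J3Cent.prime_dvd_card hq hqG with rfl | rfl | rfl | rfl | rfl <;>
    first
      | (exfalso; revert hpq; decide)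
      | skip
  · exact fun h => three 2 (by norm_num) (by norm_num) (by norm_num) h.symm
  · exact fun h => adj hq hp (by norm_num) hw (by rw [hcK]; norm_num) (by rw [hcw]; norm_num) h.symm
  · exact fun h => kl hcK (b := 7) d1920 hq hp n17 (by decide +kernel) h.symm
  · exact fun h => kl hcK (b := 7) d1920 hq hp n19 (by decide +kernel) h.symm
  · exact three 5 (by norm_num) (by norm_num) (by norm_num)
  · exact fun h => kl hcK (b := 5) d1215 hq hp n17 (by decide +kernel) h.symm
  · exact fun h => kl hcK (b := 5) d1215 hq hp n19 (by decide +kernel) h.symm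
  · exact fun h => kl hcK (b := 1) d1215 hq hp n17 (by decide +kernel) h.symm
  · exact fun h => kl hcK (b := 1) d1215 hq hp n19 (by decide +kernel) h.symm
  · refine H894.PQ.kill_count (by norm_num) (by norm_num) (by norm_num) (by norm_num) (by rw [hcK]; norm_num)
      (by rw [hcK]; norm_num) (by rw [hcK]; norm_num) (by rw [hcK]; norm_num) ?_
    decide +kernel

end Cfsg.Agent.H513.PQ.J3
end

-- part: H513/PQ/J2
section
/-!
# S4612: the row of `J₂` (helper513)

Degrees `63 = 3^2 7` (real), `175 = 5^2 7`; `C(3A) = 3.A₆`, `C(5A) = 5 × A₅`.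
-/

set_option autoImplicit false

open Cfsg Subgroup

namespace Cfsg.Agent.H513.PQ.J2

open Cfsg.Agent.H317.PQ Cfsg.Agent.H709.PB Cfsg.Agent.H513.PQ Cfsg.Agent.H358.A3
open Cfsg.Agent.Blocks.Basic

universe u

theorem isLie_alt_five : IsLieTypeChar 5 (alternatingGroup (Fin 5)) := by
  have : Fact (Nat.Prime 5) := ⟨by norm_num⟩
  obtain ⟨e⟩ := Cfsg.Agent.S0253.psl_zmod5
  exact Or.inl ⟨ZMod 5, inferInstance, inferInstance, inferInstance, 2, le_rfl, fun _ => by rw [ZMod.card]; norm_num,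
    ⟨e.symm⟩⟩

theorem alt_five_center : ∀ k : alternatingGroup (Fin 5), (∀ g : alternatingGroup (Fin 5), g * k = k * g) → k = 1 := by
  (set_option synthInstance.maxSize 9000 in open scoped Cfsg.Agent.Lib.FastPerm in decide +kernel)

theorem card_j2 : Nat.card Spor.J2 = 604800 := NotCT.Orders.j2 ⟨MulEquiv.refl _⟩

instance : Finite Spor.J2 := Nat.finite_of_card_ne_zero (by rw [card_j2]; norm_num)

theorem card_two {y : Spor.J2} (hy : orderOf y = 2) : Nat.card (centralizer ({y} : Set Spor.J2)) = 1920 ∨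
    Nat.card (centralizer ({y} : Set Spor.J2)) = 240 := by
  obtain ⟨t, u, Q, v, ρ, D⟩ := KFacts.J2.Facts.exists_dat_of (X := Spor.J2) ⟨MulEquiv.refl _⟩
  rcases D.F.cover y hy with h | h
  · left
    rw [← J2Type.Cent5.card_centralizer_of_isConj h]
    exact D.F.cardC
  · right
    rw [← J2Type.Cent5.card_centralizer_of_isConj h]
    exact J2Type.Order.card_centralizer_u D.F

theorem exists_175 : ∃ χ : IrrCharacter Spor.J2, charDegree (χ : Spor.J2 → ℂ) = 175 := by
  obtain ⟨f⟩ := J2.HundredGens.J2_iso Cfsg.Agent.S1619.result.2.2.2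
  obtain ⟨χ, hχ⟩ := H852.PSq.JTwo.deg_175
  have h1 : 175 ∈ charDegrees Spor.J2 := by
    rw [H424.DegTools.charDegrees_congr f]
    exact ⟨χ, hχ⟩
  exact h1

/-- a real character of degree 63 -/
theorem exists_real : ∃ χ : IrrCharacter Spor.J2, charDegree (χ : Spor.J2 → ℂ) = 63 ∧
    ∀ g, ((χ : Spor.J2 → ℂ) g).im = 0 := by
  obtain ⟨H, h1, -, q₁, q₂, ho1, ho2⟩ := Cfsg.Agent.S1624.result
  obtain ⟨R, hR⟩ := Cfsg.Agent.H690.Spor.RankThree.R3.of_index H (k := 36) (l := 63) h1 ho1 ho2 (by norm_num)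
    (by norm_num) (by norm_num)
  obtain ⟨χ₁, χ₂, hχ1, hχ2, hr1, hr2⟩ := H846.PB.exists_real_of_R3 hR (Or.inl (by decide)) (f₀ := 36) (by decide +kernel)
    (by norm_num) (by norm_num)
  exact ⟨χ₂, hχ2, hr2⟩

theorem prime_cases {p : ℕ} (hp : p.Prime) (h : p ∣ 604800) : p = 2 ∨ p = 3 ∨ p = 5 ∨ p = 7 := by
  have h1 : (604800 : ℕ) = 2 ^ 7 * (3 ^ 3 * (5 ^ 2 * 7)) := by norm_num
  rw [h1] at h
  rcases (Nat.Prime.dvd_mul hp).1 h with h | h
  · exact Or.inl ((Nat.prime_dvd_prime_iff_eq hp Nat.prime_two).1 (hp.dvd_of_dvd_pow h))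
  rcases (Nat.Prime.dvd_mul hp).1 h with h | h
  · exact Or.inr (Or.inl ((Nat.prime_dvd_prime_iff_eq hp Nat.prime_three).1 (hp.dvd_of_dvd_pow h)))
  rcases (Nat.Prime.dvd_mul hp).1 h with h | h
  · exact Or.inr (Or.inr (Or.inl ((Nat.prime_dvd_prime_iff_eq hp (by norm_num)).1 (hp.dvd_of_dvd_pow h))))
  · exact Or.inr (Or.inr (Or.inr ((Nat.prime_dvd_prime_iff_eq hp (by norm_num)).1 h)))

theorem nb_three : NB 3 1 Spor.J2 := by
  have : Fact (Nat.Prime 3) := ⟨Nat.prime_three⟩
  obtain ⟨x, b, -, hb, -, hcb, -⟩ := H302.Van.JTwo.three_of_iso (K := Spor.J2) ⟨MulEquiv.refl _⟩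
  refine nb_of_cent (a := 3) (by rw [card_j2]; norm_num) (by rw [card_j2]; norm_num) ?_
  intro y hy h3 h27 hall
  have hd : orderOf y ∣ 604800 := by rw [← card_j2]; exact orderOf_dvd_natCard y
  have h1 := hall b hb
  rw [hcb] at h1
  rcases prime_cases hy hd with h | h | h | h
  · rcases card_two h with h' | h' <;> rw [h'] at h27 <;> norm_num at h27
  · exact h3 h
  · rw [h] at h1; norm_num at h1
  · rw [h] at h1; norm_num at h1

theorem nb_five : NB 5 1 Spor.J2 := by
  have : Fact (Nat.Prime 5) := ⟨by norm_num⟩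
  obtain ⟨x, b, hx, hb, hcx, hcb, -⟩ := H302.Van.JTwo.five_of_iso (K := Spor.J2) ⟨MulEquiv.refl _⟩
  refine nb_of_cent (a := 2) (by rw [card_j2]; norm_num) (by rw [card_j2]; norm_num) ?_
  intro y hy h5 h25 hall
  have hd : orderOf y ∣ 604800 := by rw [← card_j2]; exact orderOf_dvd_natCard y
  rcases prime_cases hy hd with h | h | h | h
  · rcases card_two h with h' | h' <;> rw [h'] at h25 <;> norm_num at h25
  · have h1 := hall b hb
    rw [h] at h1
    exact hcb h1
  · exact h5 h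
  · have h1 := hall x hx
    rw [h, hcx] at h1
    norm_num at h1

theorem row : Row Spor.J2 := by
  obtain ⟨x, -, hx, -, hcx, -, f, hf⟩ := H302.Van.JTwo.three_of_iso (K := Spor.J2) ⟨MulEquiv.refl _⟩
  obtain ⟨x5, -, hx5, -, hcx5, -, f5, hf5⟩ := H302.Van.JTwo.five_of_iso (K := Spor.J2) ⟨MulEquiv.refl _⟩
  have three : ∀ q : ℕ, q.Prime → q ≠ 3 → q ∣ 360 → ¬ Same 3 q Spor.J2 := by
    intro q hq h3 hd hS
    exact kill_own (K := alternatingGroup (Fin 6)) Nat.prime_three hq h3 H679.isLie_alt_six J3.alt_six_center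
      (by rw [H302.Van.card_six]; exact hd) hx (by rw [hcx, H302.Van.card_six]) f hf (PQ.of_same hq hS)
  have five : ¬ Same 5 2 Spor.J2 := fun hS =>
    kill_own (K := alternatingGroup (Fin 5)) (by norm_num) (by norm_num) (by norm_num) isLie_alt_five alt_five_center
      (by rw [H302.Van.card_five]; norm_num) hx5 (by rw [hcx5, H302.Van.card_five]) f5 hf5 (PQ.of_same (by norm_num) hS)
  obtain ⟨χ, hχ, hr⟩ := exists_real
  have two : ¬ Same 2 7 Spor.J2 := by
    refine kill_mem Nat.prime_two (by norm_num) (χ := χ) (b := 1) ?_ hχ (by norm_num) (by norm_num) (by norm_num)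
      (by rw [card_j2]; norm_num) (by rw [card_j2]; norm_num)
    intro M hM
    exact (S4483.result M hM).1 χ hr (by rw [hχ]; decide)
  apply Row.of_lt
  intro p q hp hq hpq hpG hqG
  rw [card_j2] at hpG hqG
  rcases prime_cases hp hpG with rfl | rfl | rfl | rfl <;>
    rcases prime_cases hq hqG with rfl | rfl | rfl | rfl <;>
    first
      | (exfalso; revert hpq; decide)
      | skip
  · exact fun h => three 2 (by norm_num) (by norm_num) (by norm_num) h.symm
  · exact fun h => five h.symm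
  · exact two
  · exact three 5 (by norm_num) (by norm_num) (by norm_num)
  · exact kl card_j2 (b := 1) exists_175 hp hq nb_three (by decide +kernel)
  · exact kl card_j2 (b := 1) ⟨χ, hχ⟩ hp hq nb_five (by decide +kernel)

/-- **The row of `J₂`.** -/
theorem row_j2 {S : Type u} [Group S] (h : Cfsg.Spor.IsoJ2 S) : Row S := by
  obtain ⟨e⟩ := h
  exact H766.PQ.Row.of_equiv e.symm row

end Cfsg.Agent.H513.PQ.J2
end
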