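import Cfsg.Agent.H894.PQ.HeckeTab
import Cfsg.Agent.H426.Imc.HN
import Cfsg.Agent.H488.PQ.Height
import Cfsg.Agent.Prune
set_option linter.all false
prune_inst 0x7f00000000000000000000000000000000000000000000000000000000000000000000000000000000000000000000000000000000000000000000000000000000000000000000000000000000000000003fffffffffffffffffffffffffffbeffbdffffffff
open scoped Cfsg.Agent.FastGrp

/-!
# S4612, row `HN`: the lattice test on 1539000 points (helper513)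

Helper894's test for the action of degree 1539000 and the constituents of degrees 8910, 365750, 653125, 16929:

* `p = 2` : all of them are in the principal block;
* `p = 3` : 365750 and 653125 are; `p = 5` : 365750 and 16929 are; `p = 19` : 8910 is.
-/

set_option autoImplicit false
set_option linter.style.longLine false

namespace Cfsg.Agent.H513.PQ.HNRow

open Cfsg Cfsg.Agent.HN Cfsg.Agent.HN.Pres Cfsg.Agent.HN.DCover Cfsg.Agent.HN.NormalH Cfsg.Agent.HN.DSem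
open Cfsg.Agent.HN.Index Cfsg.Agent.H492.IMSph Cfsg.Agent.H33 Cfsg.Agent.H492.IMHN
open Cfsg.Agent.H426.Imc.HN (vC vD uC uD eigC eigD normC normD)
open Cfsg.Agent.H894.PQ.Hecke Cfsg.Agent.H593.IMFrame Cfsg.Agent.H317.PQ
open Cfsg.Agent.Blocks.Basic Cfsg.Agent.Blocks.Local Cfsg.Agent.H709.PB
open Cfsg.Agent.H488.PQ (exists_triv triv_mem deg_triv)

noncomputable local instance fG : Fintype Cfsg.Spor.HN := Fintype.ofFinite _

noncomputable local instance fX : Fintype (Cfsg.Spor.HN ⧸ H) := Fintype.ofFinite _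

theorem sub : Sub Cfsg.Spor.HN (Cfsg.Spor.HN ⧸ H) (QuotientGroup.mk 1 : Cfsg.Spor.HN ⧸ H)
    (fun i => QuotientGroup.mk (w9 i)) ss :=
  sub_of_table H w9 DistinctC.hdis covers ss sizes (fun i j h => ss_inj i j h)

theorem t_mem : ht ∈ DoubleCoset.doubleCoset (w9 1) (H : Set Cfsg.Spor.HN) (H : Set Cfsg.Spor.HN) := by
  have h := mul_mem_doubleCoset 0 (1 : H)
  have h2 : τ 0 (ptH 1) = 1 := by
    have h3 := card_τ 0 1
    have h4 : kk 0 1 = 1408 := by decide +kernel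
    rw [h4] at h3
    have h5 : (Finset.univ.filter (fun q => τ 0 q = 1)) = (Finset.univ : Finset (Fin 1408)) := by
      apply Finset.eq_univ_of_card
      rw [h3, Fintype.card_fin]
    have h6 : ptH 1 ∈ Finset.univ.filter (fun q => τ 0 q = 1) := by rw [h5]; exact Finset.mem_univ _
    exact (Finset.mem_filter.1 h6).2
  rw [h2, w9_zero, one_mul, OneMemClass.coe_one, one_mul] at h
  exact h

theorem ncard (i j : Fin 9) :
    {y : Cfsg.Spor.HN ⧸ H | Rel Cfsg.Spor.HN (QuotientGroup.mk 1 : Cfsg.Spor.HN ⧸ H) (QuotientGroup.mk (w9 1))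
      (QuotientGroup.mk (w9 i)) y ∧
      Rel Cfsg.Spor.HN (QuotientGroup.mk 1 : Cfsg.Spor.HN ⧸ H) (QuotientGroup.mk (w9 j)) (QuotientGroup.mk 1) y}.ncard =
      kk i j :=
  ncard_of_table H w9 ht DistinctC.hdis ptH _ card_ptH τ mul_mem_doubleCoset kk card_τ 1 t_mem (sizes 1) i j

theorem card_X : Nat.card (Cfsg.Spor.HN ⧸ H) = 1539000 := index_H DistinctC.hdis

theorem exists_of (d : ℕ) (hd : d ≠ 0) (v : Fin 9 → ℚ) (μ : ℚ) (hv0 : v 0 = 1)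
    (hv : ∀ i, ∑ j, (kk i j : ℚ) * v j = μ * v i)
    (hu : ∀ x : Fin 9 → ℂ, (∀ i, ∑ j, (kk i j : ℂ) * x j = (μ : ℂ) * x i) → ∀ i, x i = x 0 * v i)
    (hn : (∑ i, (ss i : ℚ) * v i ^ 2 : ℚ) = 1539000 / d) :
    ∃ χ : IrrCharacter Cfsg.Spor.HN, IsSph Cfsg.Spor.HN (QuotientGroup.mk 1 : Cfsg.Spor.HN ⧸ H)
      (fun i => QuotientGroup.mk (w9 i)) χ v ∧ charDegree (χ : Cfsg.Spor.HN → ℂ) = d := by
  obtain ⟨χ, h1, h2⟩ := exists_sph sub 1 0 (by rw [w9_zero]) kk ncard μ v hv0 hv hu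
  refine ⟨χ, h1, ?_⟩
  rw [hn, card_X] at h2
  have hd' : (d : ℚ) ≠ 0 := by exact_mod_cast hd
  have h3 : (charDegree (χ : Cfsg.Spor.HN → ℂ) : ℚ) = d := by
    field_simp at h2
    push_cast at h2
    linarith
  exact_mod_cast h3

/-- the spherical functions -/
def VV : Fin 5 → Fin 9 → ℚ := ![fun _ => 1, vA, vB, vC, vD]

/-- the degrees -/
def dd : Fin 5 → ℕ := ![1, 8910, 365750, 653125, 16929]

theorem exists_all : ∃ χ : Fin 5 → IrrCharacter Cfsg.Spor.HN, ((χ 0 : IrrCharacter Cfsg.Spor.HN) : Cfsg.Spor.HN → ℂ) = 1 ∧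
    (∀ l, IsSph Cfsg.Spor.HN (QuotientGroup.mk 1 : Cfsg.Spor.HN ⧸ H)
      (fun i => QuotientGroup.mk (w9 i)) (χ l) (VV l)) ∧ ∀ l, charDegree (χ l : Cfsg.Spor.HN → ℂ) = dd l := by
  obtain ⟨ε, hε⟩ := exists_triv Cfsg.Spor.HN
  obtain ⟨a, ha1, ha2⟩ := exists_of 8910 (by norm_num) vA (-112) rfl eigA uA normA
  obtain ⟨b, hb1, hb2⟩ := exists_of 365750 (by norm_num) vB (-32) rfl eigB uB normB
  obtain ⟨c, hc1, hc2⟩ := exists_of 653125 (by norm_num) vC 16 rfl eigC uC normC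
  obtain ⟨d, hd1, hd2⟩ := exists_of 16929 (by norm_num) vD 128 rfl eigD uD normD
  refine ⟨![ε, a, b, c, d], hε, ?_, ?_⟩
  · intro l
    fin_cases l
    exacts [isSph_one sub hε, ha1, hb1, hc1, hd1]
  · intro l
    fin_cases l
    exacts [deg_triv hε, ha2, hb2, hc2, hd2]

theorem VV_zero : ∀ l, VV l 0 = 1 := by decide +kernel

/-- the decision -/
theorem decide_ {p : ℕ} (hp : p.Prime) (αs : List (Fin 5 → ℚ))
    (hα : ∀ α ∈ αs, ∀ j, (∑ l, α l * (ss j * VV l j)).den = 1) (C : Finset (Fin 5) → Prop) [DecidablePred C]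
    (hC : ∀ S : Finset (Fin 5), 0 ∈ S → (∀ α ∈ αs, ¬ p ∣ (∑ l ∈ S, α l).den) → C S) (l : Fin 5)
    (hl : ∀ S, C S → l ∈ S) : ∃ χ : IrrCharacter Cfsg.Spor.HN, χ ∈ B0 p Cfsg.Spor.HN ∧
      charDegree (χ : Cfsg.Spor.HN → ℂ) = dd l := by
  obtain ⟨χ, h0, h1, h2⟩ := exists_all
  obtain ⟨S, hS, hCS⟩ := force hp sub (i0 := 0) (by rw [w9_zero]) h1 VV_zero αs hα 0 (triv_mem hp h0) C hC
  exact ⟨χ l, (hS l).1 (hl S hCS), h2 l⟩

def a2 : List (Fin 5 → ℚ) := [![1/4, -1/4, 0, 0, 0], ![-11/8, 18, -3515/4, 1425/2, 1197/8]]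
def a3 : List (Fin 5 → ℚ) := [![5/27, -3, 361/27, -95/9, 0]]
def a5 : List (Fin 5 → ℚ) := [![1/5, 18/5, -19/5, 0, 0], ![49/25, -1512/25, 266, -228, 513/25]]
def a19 : List (Fin 5 → ℚ) := [![1/19, -1/19, 0, 0, 0]]

theorem h2 : ∀ α ∈ a2, ∀ j, (∑ l, α l * (ss j * VV l j)).den = 1 := by decide +kernel
theorem h3 : ∀ α ∈ a3, ∀ j, (∑ l, α l * (ss j * VV l j)).den = 1 := by decide +kernel
theorem h5 : ∀ α ∈ a5, ∀ j, (∑ l, α l * (ss j * VV l j)).den = 1 := by decide +kernel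
theorem h19 : ∀ α ∈ a19, ∀ j, (∑ l, α l * (ss j * VV l j)).den = 1 := by decide +kernel

theorem c2 : ∀ S : Finset (Fin 5), 0 ∈ S → (∀ α ∈ a2, ¬ 2 ∣ (∑ l ∈ S, α l).den) → ∀ l, l ∈ S := by decide +kernel
theorem c3 : ∀ S : Finset (Fin 5), 0 ∈ S → (∀ α ∈ a3, ¬ 3 ∣ (∑ l ∈ S, α l).den) → 2 ∈ S ∧ 3 ∈ S := by
  decide +kernel
theorem c5 : ∀ S : Finset (Fin 5), 0 ∈ S → (∀ α ∈ a5, ¬ 5 ∣ (∑ l ∈ S, α l).den) → 2 ∈ S := by
  decide +kernel
theorem c19 : ∀ S : Finset (Fin 5), 0 ∈ S → (∀ α ∈ a19, ¬ 19 ∣ (∑ l ∈ S, α l).den) → 1 ∈ S := by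
  decide +kernel

theorem mem_two (l : Fin 5) : ∃ χ : IrrCharacter Cfsg.Spor.HN, χ ∈ B0 2 Cfsg.Spor.HN ∧
    charDegree (χ : Cfsg.Spor.HN → ℂ) = dd l :=
  decide_ Nat.prime_two a2 h2 (fun S => ∀ l, l ∈ S) c2 l fun _ h => h l

theorem mem_three : (∃ χ : IrrCharacter Cfsg.Spor.HN, χ ∈ B0 3 Cfsg.Spor.HN ∧
    charDegree (χ : Cfsg.Spor.HN → ℂ) = 365750) ∧ ∃ χ : IrrCharacter Cfsg.Spor.HN, χ ∈ B0 3 Cfsg.Spor.HN ∧
    charDegree (χ : Cfsg.Spor.HN → ℂ) = 653125 :=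
  ⟨decide_ Nat.prime_three a3 h3 (fun S => 2 ∈ S ∧ 3 ∈ S) c3 2 fun _ h => h.1,
    decide_ Nat.prime_three a3 h3 (fun S => 2 ∈ S ∧ 3 ∈ S) c3 3 fun _ h => h.2⟩

theorem mem_five : ∃ χ : IrrCharacter Cfsg.Spor.HN, χ ∈ B0 5 Cfsg.Spor.HN ∧
    charDegree (χ : Cfsg.Spor.HN → ℂ) = 365750 :=
  decide_ Nat.prime_five a5 h5 (fun S => 2 ∈ S) c5 2 fun _ h => h

theorem mem_nineteen : ∃ χ : IrrCharacter Cfsg.Spor.HN, χ ∈ B0 19 Cfsg.Spor.HN ∧
    charDegree (χ : Cfsg.Spor.HN → ℂ) = 8910 :=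
  decide_ (by norm_num) a19 h19 (fun S => 1 ∈ S) c19 1 fun _ h => h

end Cfsg.Agent.H513.PQ.HNRow
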